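import Groth.Agent.Lib.Norm11.Main
import Groth.Agent.Lib.Norm11.Restrict
import Groth.Agent.Lib.FinCov29.Rank
import Groth.Agent.Lib.CurveAmple18.Main
import Groth.Prelude.Def_Mor2

/-!
An invertible module whose pullback along a finite locally free morphism of degree `d` is trivial is
killed by `d`.
-/

set_option autoImplicit false
set_option backward.isDefEq.respectTransparency false

universe u

open CategoryTheory Limits AlgebraicGeometry TopologicalSpace Opposite

namespace Groth.Agent.NormTriv12

variable {X X' : Scheme.{u}}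

/-- A norm datum kills modules with trivial pullback. -/
theorem tensorPow_trivial_of_datum {f : X' ⟶ X} [UniversallyClosed f] (N : Norm11.NormDatum f (𝟙 X))
    {L : X.Modules} (hL : PicF.IsInvertible L)
    (e : (Scheme.Modules.pullback f).obj L ≅ Coh.structureModule X') :
    Nonempty (CohB1.tensorPow L N.R ≅ Coh.structureModule X) := by
  have hfL := PicLoc.isInvertible_pullback f hL
  obtain ⟨s, hs⟩ := Norm11.exists_norm_sec N hL (Amp.gval e.inv)
  have hgen : ∀ x' : X', Amp.Gen (Amp.gm _ x' (U := ⊤) trivial (Amp.gval e.inv)) := fun x' => by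
    rw [← Amp.mem_genLocus_iff hfL, CurveAmple18.genLocus_eq_top_of_isIso e.inv]
    trivial
  let Q := (Scheme.Modules.pullback (𝟙 X)).obj (CohB1.tensorPow L N.R)
  have hQ : PicF.IsInvertible Q :=
    PicLoc.isInvertible_pullback (𝟙 X) (M2.isInvertible_tensorPow hL N.R)
  have htop : CohB1.genLocus Q (M1.secHom s) = ⊤ := by
    refine top_le_iff.1 fun x _ => ?_
    rw [Amp.mem_genLocus_iff hQ, Amp.gval_secHom]
    exact (hs x).1 fun x' _ => hgen x'
  haveI : IsIso (M1.secHom (M := Q) s) := CurveAmple18.isIso_of_genLocus_eq_top hQ _ htop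
  exact ⟨((Scheme.Modules.pullbackId X).app _).symm ≪≫ (asIso (M1.secHom (M := Q) s)).symm⟩

open Groth.Agent.M1 in
/-- A closed morphism with `O = α_* O` is surjective. -/
theorem surjective_of_isIso_app (α : X' ⟶ X) [UniversallyClosed α] (hα : ∀ V : X.Opens, IsIso (α.app V)) :
    Surjective α := by
  refine ⟨fun z => ?_⟩
  by_contra hz
  have hC : IsClosed (Set.range α) := α.isClosedMap.isClosed_range
  let V : X.Opens := ⟨_, hC.isOpen_compl⟩
  have hzV : z ∈ V := hz
  have he : α ⁻¹ᵁ V = ⊥ := by
    ext x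
    simp only [Opens.coe_bot, Set.mem_empty_iff_false, iff_false]
    exact fun hx => hx ⟨x, rfl⟩
  haveI : Subsingleton Γ(X', α ⁻¹ᵁ V) := by rw [he]; infer_instance
  haveI := hα V
  have h01 : (1 : Γ(X, V)) = 0 :=
    (ConcreteCategory.bijective_of_isIso (α.app V)).1 (Subsingleton.elim _ _)
  have := congrArg (X.presheaf.germ V z hzV) h01
  rw [map_one, map_zero] at this
  exact one_ne_zero this

open Groth.Agent.M1 in
/-- An invertible module whose pullback along `α` with `O = α_* O` is trivial is trivial. -/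
theorem trivial_of_isIso_app (α : X' ⟶ X) [UniversallyClosed α] (hα : ∀ V : X.Opens, IsIso (α.app V))
    {L : X.Modules} (hL : PicF.IsInvertible L)
    (e : (Scheme.Modules.pullback α).obj L ≅ Coh.structureModule X') :
    Nonempty (L ≅ Coh.structureModule X) := by
  haveI := surjective_of_isIso_app α hα
  haveI := hα
  have hr : ∀ (W : X.Opens) (a : Γ(X', α ⁻¹ᵁ W)), α.app W ((inv (α.app W)) a) = a := fun W a =>
    ConcreteCategory.congr_hom (IsIso.inv_hom_id (α.app W)) a
  have hinj : ∀ (W : X.Opens), Function.Injective (α.app W) := fun W =>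
    (ConcreteCategory.bijective_of_isIso (α.app W)).1
  let N : Norm11.NormDatum α (𝟙 X) :=
    { R := 1
      R_pos := one_pos
      N := fun W a => (inv (α.app W)) a
      N_res := fun W W' le a => hinj W' ((Norm11.ores_app le ((inv (α.app W)) a)).symm.trans
        ((congrArg _ (hr W a)).trans (hr W' _).symm))
      N_mul := fun W a b => map_mul _ a b
      N_app := fun W b => (ConcreteCategory.congr_hom (IsIso.hom_inv_id (α.app W)) b).trans (pow_one _).symm
      vanish := fun W a z hz hall hmem => by
        obtain ⟨x', hx'⟩ := α.surjective z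
        refine hall x' hx' ?_
        rw [← hr W a, ← Scheme.preimage_basicOpen]
        show α x' ∈ X.basicOpen _
        rw [hx']
        exact hmem }
  obtain ⟨i⟩ := tensorPow_trivial_of_datum N hL e
  exact ⟨(M2.tensorPowOne L).symm ≪≫ i⟩

theorem tensorPow_trivial (f : X' ⟶ X) {d : ℕ} (hf : Mor2.IsFinLocFreeOfDeg d f) {L : X.Modules}
    (hL : PicF.IsInvertible L)
    (e : (Scheme.Modules.pullback f).obj L ≅ Coh.structureModule X') :
    Nonempty (CohB1.tensorPow L d ≅ Coh.structureModule X) := by
  rcases Nat.eq_zero_or_pos d with rfl | hd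
  · exact ⟨Iso.refl _⟩
  obtain ⟨⟨hfin, hflat, hfp⟩, hrank⟩ := hf
  haveI : Surjective f := (Scheme.Hom.one_le_finrank_iff_surjective f).1 fun y => by
    show 1 ≤ f.finrank y
    rw [hrank y]
    exact hd
  have hlf : FlatMod.IsFinLocFree ((Coh.push f).obj (Coh.structureModule X')) :=
    ((PushFin12.finLocFree_iff f).2 ⟨hfin, hflat, hfp⟩).2
  have hcov : ∀ x : X, ∃ i : Norm11.Good f d ⊤, x ∈ i.T := fun x => by
    obtain ⟨D, r, b, hxD, hb⟩ := Norm11.exists_isBas_nhd' _ hlf x
    obtain ⟨U, b', hU, hxU, hb'⟩ := FinCov29.exists_affine_isBas hb hxD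
    obtain rfl : r = d := (FinCov29.finrank_eq_of_isBas f hU hb' hxU).symm.trans (hrank x)
    exact ⟨⟨U, le_top, r, hd, dvd_rfl, _, Norm11.isABas_of_isBas hb'⟩, hxU⟩
  haveI := hfin
  exact tensorPow_trivial_of_datum (Norm11.freeDatum (g := f) hd hcov) hL e

end Groth.Agent.NormTriv12
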